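import Cfsg.Agent.H821.K547.Defs
import Cfsg.Agent.H137.K4.Ree
import Cfsg.Agent.S2127

/-!
# S4547: the row of the small Ree groups (helper839)

* `rk_of_exp_two`: an elementary abelian 2-group of order `2 ^ n` has `Rk n`;
* `isInn_of_odd_out`: if `|Out S|` is odd, every automorphism of 2-power order modulo inner ones is inner;
* `row_ree`.
-/

set_option autoImplicit false

namespace Cfsg.Agent.H839.K547

open Cfsg Cfsg.Agent.H601.K4 Cfsg.Agent.H821.K547

universe u v

/-- An elementary abelian 2-group of order `2 ^ n`. -/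
theorem rk_of_exp_two {n : ℕ} {P : Type u} [Group P] (hcard : Nat.card P = 2 ^ n) (hexp : ∀ x : P, x * x = 1) :
    Rk n P := by
  classical
  have hfin : Finite P := Nat.finite_of_card_ne_zero (by rw [hcard]; positivity)
  have hinv : ∀ x : P, x⁻¹ = x := fun x => inv_eq_of_mul_eq_one_left (hexp x)
  let _ : CommGroup P := { (inferInstance : Group P) with
    mul_comm := fun a b => by
      have h1 := hinv (a * b)
      rw [mul_inv_rev, hinv, hinv] at h1
      exact h1.symm }
  let _ : Module (ZMod 2) (Additive P) := AddCommGroup.zmodModule (n := 2) fun x => by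
    have h1 := hexp x.toMul
    have h2 : x + x = 0 := by
      apply Additive.toMul.injective
      rw [toMul_add, toMul_zero]
      exact h1
    rw [two_smul]
    exact h2
  have hfinA : Finite (Additive P) := hfin
  have hrank : Module.finrank (ZMod 2) (Additive P) = n := by
    have h1 : Nat.card (Additive P) = Nat.card (ZMod 2) ^ Module.finrank (ZMod 2) (Additive P) :=
      Module.natCard_eq_pow_finrank
    rw [Nat.card_zmod] at h1
    have h2 : Nat.card (Additive P) = 2 ^ n := hcard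
    rw [h2] at h1
    exact (Nat.pow_right_injective le_rfl h1).symm
  let e : Additive P ≃ₗ[ZMod 2] (Fin n → ZMod 2) :=
    LinearEquiv.ofFinrankEq _ _ (by rw [hrank, Module.finrank_fin_fun])
  refine ⟨AddMonoidHom.toMultiplicativeRight e.toAddMonoidHom, fun y => ?_⟩
  refine ⟨(e.symm y.toAdd).toMul, ?_⟩
  show Multiplicative.ofAdd (e (Additive.ofMul (e.symm y.toAdd).toMul)) = y
  rw [ofMul_toMul, LinearEquiv.apply_symm_apply, ofAdd_toAdd]

/-- If the outer automorphism group has odd order, then all automorphisms of 2-power order modulo inner ones are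
inner. -/
theorem isInn_of_odd_out {S : Type u} [Group S] {T : Type v} [Group T] (e : S ≃* T) (hodd : Odd (Nat.card (Cfsg.Out T)))
    {τ : MulAut S} (hτ : TwoPow τ) : IsInn τ := by
  obtain ⟨k, s, hs⟩ := hτ
  let τ' : MulAut T := MulAut.congr e τ
  have h1 : τ' ^ 2 ^ k ∈ Inn T := by
    refine ⟨e s, ?_⟩
    rw [← map_pow]
    ext x
    show e s * x * (e s)⁻¹ = e ((τ ^ 2 ^ k) (e.symm x))
    rw [hs, map_mul, map_mul, map_inv, MulEquiv.apply_symm_apply]
  have h2 : (QuotientGroup.mk' (Inn T) τ') ^ 2 ^ k = 1 := by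
    rw [← map_pow]
    exact (QuotientGroup.eq_one_iff _).2 h1
  have h3 : (QuotientGroup.mk' (Inn T) τ') = 1 := by
    rw [← orderOf_eq_one_iff]
    have h4 := orderOf_dvd_of_pow_eq_one h2
    have h5 : orderOf (QuotientGroup.mk' (Inn T) τ') ∣ Nat.card (Cfsg.Out T) := orderOf_dvd_natCard _
    have h6 : Nat.Coprime (2 ^ k) (Nat.card (Cfsg.Out T)) := Nat.Coprime.pow_left k (Nat.coprime_two_left.2 hodd)
    exact Nat.dvd_one.1 (h6.gcd_eq_one ▸ Nat.dvd_gcd h4 h5)
  obtain ⟨t, ht⟩ := (QuotientGroup.eq_one_iff _).1 h3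
  refine ⟨e.symm t, fun x => e.injective ?_⟩
  have h7 := DFunLike.congr_fun ht (e x)
  have h8 : τ' (e x) = e (τ x) := by
    show e (τ (e.symm (e x))) = e (τ x)
    rw [MulEquiv.symm_apply_apply]
  rw [h8] at h7
  rw [← h7, map_mul, map_mul, map_inv, MulEquiv.apply_symm_apply]
  rfl

/-- **The row of the small Ree groups.** -/
theorem row_ree {S : Type u} [Group S] (h : Lie.IsoRee S) : Row S := by
  have h5 := H137.K4.good5_ree h
  obtain ⟨K, _, _, m, hm, hK, ⟨e⟩⟩ := h
  obtain ⟨a, haH, ha1, ha2⟩ := Cfsg.Agent.S1157.exists_involution hK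
  obtain ⟨-, hS⟩ := Cfsg.Agent.S1152.result hK a haH ha1 ha2
  have hcard := Cfsg.Agent.S1069.result hK
  have hq : 27 ≤ 3 ^ (2 * m + 1) := by
    have : 3 ^ 3 ≤ 3 ^ (2 * m + 1) := Nat.pow_le_pow_right (by norm_num) (by omega)
    omega
  have hfin : Finite ↥(Cfsg.Lie.twistedG2 K (3 ^ m)) := by
    apply Nat.finite_of_card_ne_zero
    rw [hcard]
    have h1 : 3 ^ (2 * m + 1) - 1 ≠ 0 := by omega
    positivity
  have hfinS : Finite S := Finite.of_equiv _ e.symm.toEquiv
  have : Fact (Nat.Prime 2) := ⟨Nat.prime_two⟩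
  refine ⟨Or.inl ⟨h5, fun P => ?_⟩, fun τ h1 h2 => absurd (isInn_of_odd_out e ?_ h1) h2⟩
  · have h1 : IsPGroup 2 ((P : Subgroup S).map e.toMonoidHom) := P.isPGroup'.map _
    obtain ⟨Q, hQ⟩ := h1.exists_le_sylow
    refine rk_of_exp_two (n := 3) ?_ fun x => ?_
    · have h3 : Nat.card Q = 2 ^ (Nat.card S).factorization 2 := by
        rw [Q.card_eq_multiplicity, Nat.card_congr e.toEquiv]
      rw [P.card_eq_multiplicity, ← h3, (hS Q).1]
      norm_num
    · have h3 := (hS Q).2 (e x) (hQ ⟨x, x.2, rfl⟩)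
      rw [← map_mul] at h3
      exact Subtype.ext ((map_eq_one_iff e e.injective).1 h3)
  · rw [Cfsg.Agent.S2127.result hm hK]
    exact odd_two_mul_add_one m

end Cfsg.Agent.H839.K547
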